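import Cfsg.Agent.Lib.Spectrum.SelfThree.Main
import Cfsg.Agent.Lib.Spectrum.SelfThree.Triple

/-!
# An element of order three whose centralizer is a 3-group

The local theory of `Spectrum.SelfThree` with self-centralising weakened.
-/

namespace Cfsg.Agent.Lib.NineTwoQ78.Loc

open Subgroup
open Cfsg.Agent.Lib
open Cfsg.Agent.Lib.Spectrum.SelfThree (Inv MaxInv Shape SC pPart map_conj_inv
  map_conj_one exists_conj_le not_conj_map conjMap_mem exists_inv_four card_inv_sixty
  inv_subgroupOf inv_map_subtype not_three_fours pPart_le isPGroup_pPart card_pPart Zc mem_Zc Zc_le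
  normalizer_le_normalizer_Zc Flip relIndex_le_two)

variable {G : Type*} [Group G] [Finite G]

/-- `x` has order three and its centraliser is a 3-group. -/
structure WSC (x : G) : Prop where
  ord : orderOf x = 3
  cent : ∀ y, y * x = x * y → ∃ k : ℕ, orderOf y = 3 ^ k

namespace WSC

variable {x : G} (h : WSC x)
include h

omit [Finite G] in
theorem pow_three : x ^ 3 = 1 := h.ord ▸ pow_orderOf_eq_one x

omit [Finite G] in
theorem ne_one : x ≠ 1 := fun e => by simpa [e] using h.ord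

omit [Finite G] in
theorem sq_eq : x ^ 2 = x⁻¹ := by
  rw [eq_inv_iff_mul_eq_one, ← pow_succ]
  exact h.pow_three

theorem three_dvd : 3 ∣ Nat.card G := h.ord ▸ orderOf_dvd_natCard x

omit [Finite G] in
theorem inv : WSC x⁻¹ where
  ord := by rw [orderOf_inv, h.ord]
  cent y hy := h.cent y (Commute.inv_right_iff.1 (show Commute y x⁻¹ from hy))

omit [Finite G] in
theorem conj (g : G) : WSC (g * x * g⁻¹) where
  ord := by rw [← MulAut.conj_apply, MulEquiv.orderOf_eq, h.ord]
  cent y hy := by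
    obtain ⟨k, hk⟩ := h.cent (g⁻¹ * y * g) (by
      calc g⁻¹ * y * g * x = g⁻¹ * (y * (g * x * g⁻¹)) * g := by group
        _ = x * (g⁻¹ * y * g) := by rw [hy]; group)
    refine ⟨k, ?_⟩
    rw [← hk, show g⁻¹ * y * g = MulAut.conj g⁻¹ y by simp, MulEquiv.orderOf_eq]

/-! ### Subgroups of order prime to three normalised by `x` -/

variable {K : Subgroup G} (hK : ¬ 3 ∣ Nat.card K) (hN : x ∈ normalizer (K : Set G))
include hK

omit [Finite G] in
theorem eq_one_of_commute {k : G} (hk : k ∈ K) (hc : k * x = x * k) : k = 1 := by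
  obtain ⟨i, hi⟩ := h.cent k hc
  rw [← orderOf_eq_one_iff, hi]
  rcases i with _ | i
  · rfl
  · exact absurd ((dvd_pow_self 3 (Nat.succ_ne_zero i)).trans (hi ▸ orderOf_dvd_natCard K hk)) hK

include hN

omit [Finite G] in
theorem conj_mem {k : G} (hk : k ∈ K) : x * k * x⁻¹ ∈ K := (mem_normalizer_iff.1 hN k).1 hk

/-- Every element of the coset `K x` is conjugate to `x` by an element of `K`. -/
theorem exists_conj {k : G} (hk : k ∈ K) : ∃ a ∈ K, k * x = a⁻¹ * x * a := by
  let f : K → K := fun a => ⟨(a : G)⁻¹ * (x * a * x⁻¹), mul_mem (inv_mem a.2) (h.conj_mem hK hN a.2)⟩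
  have hf : Function.Injective f := by
    intro a b e
    have e' : (a : G)⁻¹ * (x * a * x⁻¹) = (b : G)⁻¹ * (x * b * x⁻¹) := congrArg Subtype.val e
    have hc : ((b : G) * (a : G)⁻¹) * x = x * ((b : G) * (a : G)⁻¹) := by
      calc ((b : G) * (a : G)⁻¹) * x
          = (b : G) * ((a : G)⁻¹ * (x * a * x⁻¹)) * x * (a : G)⁻¹ := by group
        _ = x * ((b : G) * (a : G)⁻¹) := by rw [e']; group
    have := h.eq_one_of_commute hK (mul_mem b.2 (inv_mem a.2)) hc
    exact Subtype.ext (mul_inv_eq_one.1 this).symm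
  obtain ⟨a, ha⟩ := Finite.surjective_of_injective hf ⟨k, hk⟩
  have ha' : (a : G)⁻¹ * (x * a * x⁻¹) = k := congrArg Subtype.val ha
  exact ⟨a, a.2, by rw [← ha']; group⟩

theorem coset_pow_three {k : G} (hk : k ∈ K) : (k * x) ^ 3 = 1 := by
  obtain ⟨a, -, e⟩ := h.exists_conj hK hN hk
  have := conj_pow (a := a⁻¹) (b := x) (i := 3)
  rw [inv_inv, h.pow_three, mul_one, inv_mul_cancel] at this
  rw [e, this]

/-- The fixed-point-free relation. -/
theorem norm_eq_one {k : G} (hk : k ∈ K) :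
    k * (x * k * x⁻¹) * (x * (x * k * x⁻¹) * x⁻¹) = 1 := by
  have e := h.coset_pow_three hK hN hk
  calc k * (x * k * x⁻¹) * (x * (x * k * x⁻¹) * x⁻¹) = (k * x) ^ 3 * (x ^ 3)⁻¹ := by
        simp only [pow_succ, pow_zero, one_mul]; group
    _ = 1 := by rw [e, h.pow_three, inv_one, one_mul]

theorem card_modEq : Nat.card K ≡ 1 [MOD 3] := by
  classical
  have : Fact (Nat.Prime 3) := ⟨Nat.prime_three⟩
  have := Fintype.ofFinite K
  let σ : Equiv.Perm K := (K.normalizerMonoidHom ⟨x, hN⟩).toEquiv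
  have hσ : ∀ k : K, (σ k : G) = x * k * x⁻¹ := fun k => rfl
  let f : Function.End K := ⇑σ
  have h3 : f ^ 3 ^ 1 = 1 := by
    refine funext fun k => Subtype.ext ?_
    show ((σ (σ (σ k)) : K) : G) = k
    rw [hσ, hσ, hσ]
    calc x * (x * (x * (k : G) * x⁻¹) * x⁻¹) * x⁻¹ = x ^ 3 * k * (x ^ 3)⁻¹ := by
          simp only [pow_succ, pow_zero, one_mul]; group
      _ = _ := by rw [h.pow_three, inv_one, one_mul, mul_one]
  have hfix : Fintype.card (Function.fixedPoints σ) = 1 := by
    rw [Fintype.card_eq_one_iff]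
    refine ⟨⟨1, Subtype.ext (by rw [hσ]; simp)⟩, fun k => Subtype.ext (Subtype.ext ?_)⟩
    refine h.eq_one_of_commute hK k.1.2 ?_
    have e := congrArg Subtype.val k.2
    rw [hσ] at e
    exact (mul_inv_eq_iff_eq_mul.1 e).symm
  rw [Nat.card_eq_fintype_card, ← hfix]
  exact Equiv.Perm.card_fixedPoints_modEq (f := f) h3

theorem isNilpotent : Group.IsNilpotent K := by
  let φ : K ≃* K := K.normalizerMonoidHom ⟨x, hN⟩
  refine Frobenius.Nilpotent.isNilpotent_of_fixedPointFree Nat.prime_three φ ?_ ?_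
  · intro k hk
    have e : x * (k : G) * x⁻¹ = k := congrArg Subtype.val hk
    exact Subtype.ext (h.eq_one_of_commute hK k.2 (mul_inv_eq_iff_eq_mul.1 e).symm)
  · intro k
    refine Subtype.ext ?_
    show x * (x * (x * (k : G) * x⁻¹) * x⁻¹) * x⁻¹ = k
    calc x * (x * (x * (k : G) * x⁻¹) * x⁻¹) * x⁻¹ = x ^ 3 * k * (x ^ 3)⁻¹ := by
          simp only [pow_succ, pow_zero, one_mul]; group
      _ = k := by rw [h.pow_three, inv_one, one_mul, mul_one]

end WSC

variable (G) in
/-- A simple group in which the normaliser of a nontrivial `3'`-subgroup has `WSC` elements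
self-centralising. -/
structure Ctx : Prop where
  simple : IsSimpleGroup G
  noncomm : ¬ IsMulCommutative G
  loc : ∀ L W : Subgroup G, W ≠ ⊥ → W ≤ L → L ≤ normalizer (W : Set G) → ¬ 3 ∣ Nat.card W →
    ∀ z : G, WSC z → ∀ hz : z ∈ L, SC (⟨z, hz⟩ : L)

end Cfsg.Agent.Lib.NineTwoQ78.Loc
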