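import Cfsg.Agent.Lib.NineTwoQ78.Loc.Local

/-!
# Classes of maximal invariant subgroups

Copied from `Spectrum.SelfThree`, for elements whose centraliser is a 3-group.
-/

namespace Cfsg.Agent.Lib.NineTwoQ78.Loc

open Subgroup
open Cfsg.Agent.Lib
open Cfsg.Agent.Lib.Spectrum.SelfThree (Inv MaxInv Shape SC pPart map_conj_inv
  map_conj_one exists_conj_le not_conj_map conjMap_mem exists_inv_four card_inv_sixty
  inv_subgroupOf inv_map_subtype not_three_fours pPart_le isPGroup_pPart card_pPart Zc mem_Zc Zc_le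
  normalizer_le_normalizer_Zc Flip relIndex_le_two)
open scoped Pointwise

universe u

variable {G : Type u} [Group G] [Finite G]

variable {p : ℕ} [hp : Fact p.Prime]

variable {z : G} (h : WSC z) {M : Subgroup G} (hM : MaxInv z M)
include h hM

theorem le_pPart {Q : Subgroup G} (hQ : IsPGroup p Q) (hQM : Q ≤ M) : Q ≤ pPart p M := by
  have := h.isNilpotent hM.1.1 hM.1.2
  obtain ⟨S, hS⟩ := (hQ.comap_of_injective M.subtype M.subtype_injective).exists_le_sylow
  have hn : (default : Sylow p M).Normal := inferInstance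
  let _ := Sylow.unique_of_normal _ hn
  intro y hy
  exact ⟨⟨y, hQM hy⟩, Subsingleton.elim S default ▸ hS (show (⟨y, hQM hy⟩ : M) ∈ Q.comap M.subtype from hy), rfl⟩

theorem mem_pPart {a : G} (ha : a ∈ M) {k : ℕ} (hk : a ^ p ^ k = 1) : a ∈ pPart p M := by
  obtain ⟨i, -, hi⟩ := (Nat.dvd_prime_pow hp.out).1 (orderOf_dvd_of_pow_eq_one hk)
  exact le_pPart h hM (IsPGroup.of_card (n := i) (by rw [Nat.card_zpowers, hi])) (zpowers_le.2 ha)
    (mem_zpowers a)

theorem normalizer_le_normalizer_pPart :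
    normalizer (M : Set G) ≤ normalizer (pPart p M : Set G) := by
  intro g hg
  rw [mem_normalizer_iff_map_conj_eq] at hg ⊢
  refine eq_of_le_of_card_ge (le_pPart h hM ((isPGroup_pPart M).map _) ?_) ?_
  · exact (Subgroup.map_mono (pPart_le p M)).trans hg.le
  · rw [card_map_of_injective (MulAut.conj g).injective]

theorem not_three_dvd : ¬ 3 ∣ Nat.card M := hM.1.1

theorem ne_top : M ≠ ⊤ := fun e => hM.1.1 (by rw [e, Subgroup.card_top]; exact h.three_dvd)

variable (hG : Ctx G) (hne : M ≠ ⊥)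
include hG hne

theorem normalizer_ne_top : normalizer (M : Set G) ≠ ⊤ := by
  intro e
  have := hG.simple
  rcases (normalizer_eq_top_iff.1 e).eq_bot_or_eq_top with e' | e'
  exacts [hne e', ne_top h hM e']

theorem card_normalizer :
    Nat.card (normalizer (M : Set G)) = 3 * Nat.card M ∨
      Nat.card (normalizer (M : Set G)) = 6 * Nat.card M := by
  rcases local_cases hG hne le_normalizer le_rfl hM.1.1 h hM.1.2 with
    ⟨N, -, hc, hu⟩ | hu
  · rwa [← hu z M h hM.1.2 hM le_normalizer] at hc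
  · exact absurd le_rfl (hu z M h hM.1.2 hM le_normalizer).2.1

theorem eq_of_le_normalizer {z' : G} {M' : Subgroup G} (h' : WSC z') (hM' : MaxInv z' M')
    (hz' : z' ∈ normalizer (M : Set G)) (hle : M' ≤ normalizer (M : Set G)) : M' = M := by
  rcases local_cases hG hne le_normalizer le_rfl hM.1.1 h hM.1.2 with
    ⟨N, -, -, hu⟩ | hu
  · exact (hu z' M' h' hz' hM' hle).trans (hu z M h hM.1.2 hM le_normalizer).symm
  · exact absurd le_rfl (hu z M h hM.1.2 hM le_normalizer).2.1

/-- Two-elements of the normaliser outside `M` invert `z` modulo `M`. -/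
theorem exists_flip {a : G} (haN : a ∈ normalizer (M : Set G)) (haM : a ∉ M) {k : ℕ}
    (hk : a ^ 2 ^ k = 1) : ∃ m ∈ M, a * z * a⁻¹ = m * z⁻¹ := by
  set L := normalizer (M : Set G) with hL
  set K := M.subgroupOf L
  have hK : K.Normal := normal_subgroupOf_of_le_normalizer le_rfl
  have hK3 : ¬ 3 ∣ Nat.card K := by
    rw [Nat.card_congr (subgroupOfEquivOfLe le_normalizer).toEquiv]; exact hM.1.1
  have hq : SC (((⟨z, hM.1.2⟩ : L) : L ⧸ K)) :=
    (hG.loc L M hne le_normalizer le_rfl hM.1.1 z h hM.1.2).quotient hK3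
  set zb : L ⧸ K := ((⟨z, hM.1.2⟩ : L) : L ⧸ K)
  set ab : L ⧸ K := ((⟨a, haN⟩ : L) : L ⧸ K)
  have hcard : Nat.card (L ⧸ K) = 3 ∨ Nat.card (L ⧸ K) = 6 := by
    have e := K.card_eq_card_quotient_mul_card_subgroup
    rw [Nat.card_congr (subgroupOfEquivOfLe le_normalizer).toEquiv] at e
    rcases card_normalizer h hM hG hne with e' | e' <;> rw [e'] at e
    · exact Or.inl (mul_right_cancel₀ Nat.card_pos.ne' e).symm
    · exact Or.inr (mul_right_cancel₀ Nat.card_pos.ne' e).symm
  have hab1 : ab ≠ 1 := fun e => haM (mem_subgroupOf.1 ((QuotientGroup.eq_one_iff _).1 e))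
  have habk : ab ^ 2 ^ k = 1 := by
    rw [← QuotientGroup.mk_pow, show (⟨a, haN⟩ : L) ^ 2 ^ k = 1 from Subtype.ext (by simpa using hk),
      QuotientGroup.mk_one]
  have habz : ab ∉ zpowers zb := fun hm => hab1 (orderOf_eq_one_iff.1
    (Nat.eq_one_of_dvd_coprimes (Nat.Coprime.pow_left k (by norm_num : Nat.Coprime 2 3))
      (orderOf_dvd_of_pow_eq_one habk) (hq.ord ▸ orderOf_dvd_of_mem_zpowers hm)))
  have hidx : (zpowers zb).index = 2 := by
    have e := (zpowers zb).card_mul_index
    rw [hq.card_zpowers] at e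
    rcases hcard with e' | e' <;> rw [e'] at e
    · exfalso
      have : zpowers zb = ⊤ := Subgroup.eq_top_of_card_eq _ (by rw [hq.card_zpowers, e'])
      exact habz (this ▸ mem_top ab)
    · omega
  have hn := normal_of_index_eq_two hidx
  have hnm : ab ∈ normalizer ((zpowers zb : Subgroup (L ⧸ K)) : Set (L ⧸ K)) := by
    rw [normalizer_eq_top]; exact mem_top _
  rcases hq.normalizer_cases hnm with e | e
  · exact absurd (hq.cent ab (mul_inv_eq_iff_eq_mul.1 e)) habz
  · refine ⟨a * z * a⁻¹ * z, ?_, by group⟩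
    have e' : ((⟨a, haN⟩ * ⟨z, hM.1.2⟩ * (⟨a, haN⟩ : L)⁻¹ * ⟨z, hM.1.2⟩ : L) : L ⧸ K) = 1 := by
      simp only [QuotientGroup.mk_mul, QuotientGroup.mk_inv]
      show ab * zb * ab⁻¹ * zb = 1
      rw [e, inv_mul_cancel]
    exact mem_subgroupOf.1 ((QuotientGroup.eq_one_iff _).1 e')

theorem normalizer_pPart (hdvd : p ∣ Nat.card M) :
    normalizer (pPart p M : Set G) = normalizer (M : Set G) := by
  refine le_antisymm ?_ (normalizer_le_normalizer_pPart h hM)
  have hne' : pPart p M ≠ ⊥ := fun e => by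
    have := card_pPart (p := p) M
    rw [e, Subgroup.card_bot] at this
    have := Nat.Prime.factorization_pos_of_dvd hp.out Nat.card_pos.ne' hdvd
    have := Nat.one_lt_pow (show (Nat.card M).factorization p ≠ 0 by omega) hp.out.one_lt
    omega
  have hP3 : ¬ 3 ∣ Nat.card (pPart p M) := fun h3 =>
    hM.1.1 (h3.trans (card_dvd_of_le (pPart_le p M)))
  have hMN : M ≤ normalizer (pPart p M : Set G) :=
    le_normalizer.trans (normalizer_le_normalizer_pPart h hM)
  have hzN : z ∈ normalizer (pPart p M : Set G) := normalizer_le_normalizer_pPart h hM hM.1.2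
  have hLne : normalizer (pPart p M : Set G) ≠ ⊤ := by
    intro e
    have := hG.simple
    rcases (normalizer_eq_top_iff.1 e).eq_bot_or_eq_top with e' | e'
    · exact hne' e'
    · exact ne_top h hM (top_le_iff.1 (e' ▸ pPart_le p M))
  rcases local_cases hG hne' le_normalizer le_rfl hP3 h hzN with ⟨N, hN, -, hu⟩ | hu
  · rwa [← hu z M h hzN hM hMN] at hN
  · have h2 := (hu z M h hzN hM hMN).1
    obtain ⟨k, hk⟩ := h2.exists_card_eq
    have hp2 : p = 2 := by
      rw [hk] at hdvd
      exact (Nat.prime_dvd_prime_iff_eq hp.out Nat.prime_two).1 (hp.out.dvd_of_dvd_pow hdvd)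
    subst hp2
    exact (le_antisymm (pPart_le 2 M) (le_pPart h hM h2 le_rfl)).symm ▸ le_rfl

/-- The odd Sylow subgroups of `M` are Sylow subgroups of `G`; for `p = 2` when `|N(M)| = 3|M|`. -/
theorem factorization_eq (hdvd : p ∣ Nat.card M)
    (hp' : p ≠ 2 ∨ Nat.card (normalizer (M : Set G)) = 3 * Nat.card M) :
    (Nat.card G).factorization p = (Nat.card M).factorization p := by
  set n := (Nat.card M).factorization p
  refine le_antisymm ?_ ((Nat.factorization_le_iff_dvd Nat.card_pos.ne' Nat.card_pos.ne').2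
    M.card_subgroup_dvd_card p)
  by_contra hlt
  push Not at hlt
  have hd : p ^ (n + 1) ∣ Nat.card G :=
    (hp.out.pow_dvd_iff_le_factorization Nat.card_pos.ne').2 hlt
  have h1 := Sylow.prime_pow_dvd_card_normalizer hd (card_pPart (p := p) M)
  rw [normalizer_pPart h hM hG hne hdvd] at h1
  have h3 : p ≠ 3 := fun e => hM.1.1 (e ▸ hdvd)
  have h2 : p ^ (n + 1) ∣ Nat.card M := by
    rcases card_normalizer h hM hG hne with e | e <;> rw [e] at h1
    · exact (Nat.Coprime.pow_left _ ((Nat.coprime_primes hp.out Nat.prime_three).2 h3)).dvd_of_dvd_mul_left h1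
    · rcases hp' with hp' | hp'
      · refine (Nat.Coprime.pow_left _ ?_).dvd_of_dvd_mul_left h1
        exact Nat.Coprime.mul_right ((Nat.coprime_primes hp.out Nat.prime_two).2 hp')
          ((Nat.coprime_primes hp.out Nat.prime_three).2 h3) |> fun c => by simpa using c
      · rw [hp'] at e
        have := Nat.card_pos (α := M)
        omega
  have := (hp.out.pow_dvd_iff_le_factorization Nat.card_pos.ne').1 h2
  omega

theorem eq_map_of_pPart {z' : G} {M' : Subgroup G} (h' : WSC z') (hM' : MaxInv z' M')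
    (hne' : M' ≠ ⊥) (hdvd : p ∣ Nat.card M) (hdvd' : p ∣ Nat.card M') (g : G)
    (he : pPart p M' = (pPart p M).map (MulAut.conj g).toMonoidHom) :
    M' = M.map (MulAut.conj g).toMonoidHom := by
  set M'' := M.map (MulAut.conj g).toMonoidHom with hM''
  have hne'' : M'' ≠ ⊥ := by
    rw [hM'', Ne, Subgroup.map_eq_bot_iff_of_injective _ (MulAut.conj g).injective]; exact hne
  have hN : normalizer (M' : Set G) = normalizer (M'' : Set G) := by
    rw [← normalizer_pPart h' hM' hG hne' hdvd', he, hM'',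
      ← map_equiv_normalizer_eq _ (MulAut.conj g), ← map_equiv_normalizer_eq _ (MulAut.conj g),
      normalizer_pPart h hM hG hne hdvd]
  exact eq_of_le_normalizer (h.conj g) (hM.conj g) hG hne'' h' hM' (hN ▸ hM'.1.2)
    (hN ▸ le_normalizer)


end Cfsg.Agent.Lib.NineTwoQ78.Loc
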