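import Cfsg.Agent.Lib.NineTwoQ78.Loc.Basic

/-!
# Local subgroups

Copied from `Spectrum.SelfThree`, for elements whose centraliser is a 3-group.
-/

namespace Cfsg.Agent.Lib.NineTwoQ78.Loc

open Subgroup
open Cfsg.Agent.Lib
open Cfsg.Agent.Lib.Spectrum.SelfThree (Inv MaxInv Shape SC pPart map_conj_inv
  map_conj_one exists_conj_le not_conj_map conjMap_mem exists_inv_four card_inv_sixty
  inv_subgroupOf inv_map_subtype not_three_fours pPart_le isPGroup_pPart card_pPart Zc mem_Zc Zc_le
  normalizer_le_normalizer_Zc Flip relIndex_le_two)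
open scoped Pointwise

universe u

variable {G : Type u} [Group G] [Finite G]

/-- The subgroups above a maximal invariant one and normalising a nontrivial invariant subgroup. -/
theorem local_cases (hG : Ctx G) {L W : Subgroup G} (hW : W ≠ ⊥) (hWL : W ≤ L)
    (hLW : L ≤ normalizer (W : Set G)) (hW3 : ¬ 3 ∣ Nat.card W) {z : G} (hz : WSC z) (hzL : z ∈ L) :
    (∃ N : Subgroup G, L ≤ normalizer (N : Set G) ∧
      (Nat.card L = 3 * Nat.card N ∨ Nat.card L = 6 * Nat.card N) ∧
      ∀ z' M', WSC z' → z' ∈ L → MaxInv z' M' → M' ≤ L → M' = N) ∨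
    (∀ z' M', WSC z' → z' ∈ L → MaxInv z' M' → M' ≤ L → IsPGroup 2 M' ∧ ¬ L ≤ normalizer (M' : Set G) ∧
      ∀ R ≤ L, IsPGroup 2 R → Nat.card R ≤ Nat.card M') := by
  rcases Spectrum.SelfThree.shape (hG.loc L W hW hWL hLW hW3 z hz hzL) with ⟨N, hN, hN3, hidx⟩ | ⟨N, hN, hN2, hc, hs⟩ | ⟨-, hs⟩
  · left
    refine ⟨N.map L.subtype, ?_, ?_, fun z' M' hz' hz'L hM' hM'L => ?_⟩
    · intro l hl
      have hn : (⟨l, hl⟩ : L) ∈ normalizer (N : Set L) := by rw [normalizer_eq_top]; exact mem_top _
      have := le_normalizer_map L.subtype (mem_map_of_mem L.subtype hn)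
      exact this
    · rw [card_map_of_injective L.subtype_injective, ← N.card_mul_index]
      rcases hidx with e | e <;> rw [e] <;> [left; right] <;> ring
    · let zL : L := ⟨z', hz'L⟩
      have hzs : SC zL := hG.loc L W hW hWL hLW hW3 z' hz' hz'L
      have hzN : zL ∈ normalizer (N : Set L) := by rw [normalizer_eq_top]; exact mem_top _
      have hle : M'.subgroupOf L ≤ N := by
        have hq : SC (zL : L ⧸ N) := hzs.quotient hN3
        have hI := inv_subgroupOf hz'L hM'.1 hM'L
        set Yb := (M'.subgroupOf L).map (QuotientGroup.mk' N) with hYb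
        have h3 : ¬ 3 ∣ Nat.card Yb := fun h3 => hI.1 (h3.trans (card_map_dvd _ _))
        have hn : (zL : L ⧸ N) ∈ normalizer (Yb : Set (L ⧸ N)) :=
          le_normalizer_map _ (mem_map_of_mem (QuotientGroup.mk' N) hI.2)
        have h1 : Nat.card Yb % 3 = 1 := hq.card_modEq h3 hn
        have h2 : Nat.card Yb ∣ N.index := Yb.card_subgroup_dvd_card
        have : Nat.card Yb = 1 := by
          have hle : Nat.card Yb ≤ 6 := by
            refine Nat.le_of_dvd (by norm_num) (h2.trans ?_)
            rcases hidx with e | e <;> rw [e]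
            norm_num
          rcases hidx with e | e <;> rw [e] at h2 <;> generalize Nat.card Yb = k at h1 h2 h3 hle <;>
            interval_cases k <;> omega
        rwa [hYb, card_eq_one, Subgroup.map_eq_bot_iff, QuotientGroup.ker_mk'] at this
      have hM'N : M' ≤ N.map L.subtype := fun y hy => ⟨⟨y, hM'L hy⟩, hle (mem_subgroupOf.2 hy), rfl⟩
      exact (hM'.2 _ (inv_map_subtype (z := zL) ⟨hN3, hzN⟩) hM'N).symm
  · right
    intro z' M' hz' hz'L hM' hM'L
    have hp2 : IsPGroup 2 N := fun n => ⟨1, Subtype.ext (by simpa using hN2 n n.2)⟩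
    obtain ⟨k, hk⟩ := hp2.exists_card_eq
    have hN3 : ¬ 3 ∣ Nat.card N := fun h3 => by
      rw [hk] at h3
      have := Nat.prime_three.dvd_of_dvd_pow h3
      norm_num at this
    let zL : L := ⟨z', hz'L⟩
    have hzs : SC zL := hG.loc L W hW hWL hLW hW3 z' hz' hz'L
    have hq : SC (zL : L ⧸ N) := hzs.quotient hN3
    have hI := inv_subgroupOf hz'L hM'.1 hM'L
    set Y := M'.subgroupOf L with hY
    have hsupI : Inv zL (Y ⊔ N) := by
      refine ⟨?_, ?_⟩
      · intro h3
        have hcm : (Y.map (QuotientGroup.mk' N)).comap (QuotientGroup.mk' N) = Y ⊔ N := by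
          rw [comap_map_eq, QuotientGroup.ker_mk']
        rw [← hcm, show Nat.card ((Y.map (QuotientGroup.mk' N)).comap (QuotientGroup.mk' N)) =
          Nat.card N * Nat.card (Y.map (QuotientGroup.mk' N)) from
          QuotientGroup.card_preimage_mk N ((Y.map (QuotientGroup.mk' N)) : Set (L ⧸ N))] at h3
        rcases Nat.prime_three.dvd_mul.1 h3 with e | e
        exacts [hN3 e, hI.1 (e.trans (card_map_dvd _ _))]
      · rw [mem_normalizer_iff]
        intro y
        have : (Y ⊔ N).map (MulAut.conj zL).toMonoidHom = Y ⊔ N := by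
          rw [Subgroup.map_sup]
          congr 1
          · exact (mem_normalizer_iff_map_conj_eq.1 hI.2)
          · exact (mem_normalizer_iff_map_conj_eq.1
              (by rw [normalizer_eq_top]; exact mem_top zL))
        exact (mem_normalizer_iff.1 (mem_normalizer_iff_map_conj_eq.2 this)) y
    have hNY : N ≤ Y := by
      have e := hM'.2 _ (inv_map_subtype hsupI) (fun y hy =>
        ⟨⟨y, hM'L hy⟩, mem_sup_left (mem_subgroupOf.2 hy), rfl⟩)
      intro n hn
      rw [hY, mem_subgroupOf, ← e]
      exact mem_map_of_mem L.subtype (mem_sup_right hn)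
    set Yb := Y.map (QuotientGroup.mk' N) with hYb
    have hcY : Nat.card Y = Nat.card N * Nat.card Yb := by
      have hcm : Yb.comap (QuotientGroup.mk' N) = Y := by
        rw [hYb, comap_map_eq, QuotientGroup.ker_mk', sup_eq_left.2 hNY]
      conv_lhs => rw [← hcm]
      exact QuotientGroup.card_preimage_mk N (Yb : Set (L ⧸ N))
    have hIb : Inv (zL : L ⧸ N) Yb := ⟨fun h3 => hI.1 (h3.trans (card_map_dvd _ _)),
      le_normalizer_map _ (mem_map_of_mem (QuotientGroup.mk' N) hI.2)⟩
    have h4 : Nat.card Yb = 4 := by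
      refine (card_inv_sixty hc hq hIb).resolve_left fun h1 => ?_
      obtain ⟨V, hV, hVc⟩ := exists_inv_four hc hq
      have hbig : Inv zL (V.comap (QuotientGroup.mk' N)) := by
        refine ⟨?_, le_normalizer_comap _ (mem_comap.2 hV.2)⟩
        have e : Nat.card (V.comap (QuotientGroup.mk' N)) = Nat.card N * Nat.card V :=
          QuotientGroup.card_preimage_mk N (V : Set (L ⧸ N))
        rw [e, hVc]
        intro h3
        rcases Nat.prime_three.dvd_mul.1 h3 with e | e
        exacts [hN3 e, by norm_num at e]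
      have hYN : Y ≤ N := by
        have := card_eq_one.1 h1
        rwa [hYb, Subgroup.map_eq_bot_iff, QuotientGroup.ker_mk'] at this
      have hle : Y ≤ V.comap (QuotientGroup.mk' N) := hYN.trans (QuotientGroup.le_comap_mk' N V)
      have e := hM'.2 _ (inv_map_subtype hbig) (fun y hy => ⟨⟨y, hM'L hy⟩, hle (mem_subgroupOf.2 hy), rfl⟩)
      have : Nat.card ((V.comap (QuotientGroup.mk' N)).map L.subtype) = Nat.card Y := by
        rw [e, hY, Nat.card_congr (subgroupOfEquivOfLe hM'L).toEquiv]
      rw [card_map_of_injective L.subtype_injective,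
        show Nat.card (V.comap (QuotientGroup.mk' N)) = Nat.card N * Nat.card V from
          QuotientGroup.card_preimage_mk N (V : Set (L ⧸ N)), hVc, hcY, h1] at this
      have := Nat.card_pos (α := N)
      omega
    have hM'c : Nat.card M' = Nat.card N * 4 := by
      rw [← h4, ← hcY, hY, Nat.card_congr (subgroupOfEquivOfLe hM'L).toEquiv]
    refine ⟨IsPGroup.of_card (n := k + 2) (by rw [hM'c, hk, pow_add]; norm_num), fun hn => ?_,
      fun R hR hR2 => ?_⟩
    · have hYn : Y.Normal := normal_subgroupOf_of_le_normalizer hn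
      have hYbn : Yb.Normal := hYn.map _ (QuotientGroup.mk'_surjective N)
      rcases hYbn.eq_bot_or_eq_top with e | e
      · rw [e, Subgroup.card_bot] at h4; omega
      · rw [e, Subgroup.card_top, hc] at h4; omega
    · rw [hM'c, ← Nat.card_congr (subgroupOfEquivOfLe hR).toEquiv]
      set R' := (R.subgroupOf L).map (QuotientGroup.mk' N) with hR'
      have hb : Nat.card (R.subgroupOf L) ≤ Nat.card N * Nat.card R' := by
        have hle : R.subgroupOf L ≤ R'.comap (QuotientGroup.mk' N) := le_comap_map _ _
        refine (card_le_of_le hle).trans (le_of_eq ?_)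
        exact QuotientGroup.card_preimage_mk N (R' : Set (L ⧸ N))
      refine hb.trans (Nat.mul_le_mul_left _ ?_)
      have hR'2 : IsPGroup 2 R' := ((hR2.comap_of_injective _ L.subtype_injective)).map _
      obtain ⟨j, hj⟩ := hR'2.exists_card_eq
      have hd : Nat.card R' ∣ 60 := hc ▸ R'.card_subgroup_dvd_card
      rw [hj] at hd ⊢
      by_contra hgt
      push Not at hgt
      have : 2 ^ 3 ∣ 2 ^ j := pow_dvd_pow 2 (by
        by_contra hj3; push Not at hj3; interval_cases j <;> omega)
      have := this.trans hd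
      norm_num at this
  · exfalso
    have hWn : (W.subgroupOf L).Normal := normal_subgroupOf_of_le_normalizer hLW
    rcases hWn.eq_bot_or_eq_top with e | e
    · exact hW (by simpa [subgroupOf_eq_bot, disjoint_iff, inf_eq_left.2 hWL] using e)
    · apply hW3
      rw [← Nat.card_congr (subgroupOfEquivOfLe hWL).toEquiv, e, Subgroup.card_top]
      exact (hG.loc L W hW hWL hLW hW3 z hz hzL).three_dvd

end Cfsg.Agent.Lib.NineTwoQ78.Loc
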