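import Cfsg.Agent.Lib.NineTwoQ78.Loc.Even

/-!
# Maximal invariant subgroups of even order

Copied from `Spectrum.SelfThree`, for elements whose centraliser is a 3-group.
-/

namespace Cfsg.Agent.Lib.NineTwoQ78.Loc

open Subgroup
open Cfsg.Agent.Lib
open Cfsg.Agent.Lib.Spectrum.SelfThree (Inv MaxInv Shape SC pPart map_conj_inv
  map_conj_one exists_conj_le not_conj_map conjMap_mem exists_inv_four card_inv_sixty
  inv_subgroupOf inv_map_subtype not_three_fours pPart_le isPGroup_pPart card_pPart Zc mem_Zc Zc_le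
  normalizer_le_normalizer_Zc Flip relIndex_le_two)
open scoped Pointwise

universe u

variable {G : Type u} [Group G] [Finite G] {z : G} {M : Subgroup G}

local notation "two" => pPart 2

theorem twoInv [hp : Fact (Nat.Prime 2)] (h : WSC z) (hM : MaxInv z M) : TwoInv z (two M) :=
  ⟨h, isPGroup_pPart M, normalizer_le_normalizer_pPart h hM hM.1.2⟩

variable [hp : Fact (Nat.Prime 2)] (h : WSC z) (hM : MaxInv z M)
include h hM

/-- Elements of `M` act on the two-part as inner automorphisms. -/
theorem exists_inner {m : G} (hm : m ∈ M) :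
    ∃ q ∈ two M, ∀ p ∈ two M, m * p * m⁻¹ = q * p * q⁻¹ := by
  have := h.isNilpotent hM.1.1 hM.1.2
  set o := orderOf (⟨m, hm⟩ : M) with ho
  have ho0 : o ≠ 0 := (orderOf_pos _).ne'
  set a := 2 ^ o.factorization 2 with ha
  set b := o / a with hb
  have hab : a * b = o := Nat.ordProj_mul_ordCompl_eq_self o 2
  have hcop : Nat.Coprime b a := by
    refine Nat.Coprime.pow_right _ ((Nat.coprime_comm).1 ?_)
    exact Nat.coprime_ordCompl hp.out ho0
  have hbez := Nat.gcd_eq_gcd_ab b a
  rw [hcop.gcd_eq_one, Nat.cast_one] at hbez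
  set u := (b : ℤ) * Nat.gcdA b a
  set v := (a : ℤ) * Nat.gcdB b a
  have hsplit : m = m ^ u * m ^ v := by rw [← zpow_add, ← hbez, zpow_one]
  have hmo : m ^ (o : ℤ) = 1 := by
    rw [zpow_natCast, ho, ← orderOf_coe]; exact pow_orderOf_eq_one m
  refine ⟨m ^ u, ?_, fun p hpm => ?_⟩
  · refine mem_pPart (p := 2) h hM (zpow_mem hm _) (k := o.factorization 2) ?_
    rw [← ha, ← zpow_natCast, ← zpow_mul, show u * (a : ℤ) = (o : ℤ) * Nat.gcdA b a by
      simp only [u]; rw [← hab]; push_cast; ring, zpow_mul, hmo, one_zpow]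
  · have hcomm : Commute (m ^ v) p := by
      have hp' : p ∈ M := pPart_le 2 M hpm
      have hvord : orderOf (m ^ v) ∣ b := orderOf_dvd_of_pow_eq_one (by
        rw [← zpow_natCast, ← zpow_mul, show v * (b : ℤ) = (o : ℤ) * Nat.gcdB b a by
          simp only [v]; rw [← hab]; push_cast; ring, zpow_mul, hmo, one_zpow])
      obtain ⟨i, hi⟩ := (isPGroup_pPart (p := 2) M) ⟨p, hpm⟩
      have hpord : orderOf p ∣ 2 ^ i := orderOf_dvd_of_pow_eq_one (congrArg Subtype.val hi)
      have hb2 : Nat.Coprime b (2 ^ i) :=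
        Nat.Coprime.pow_right _ ((Nat.coprime_comm).1 (Nat.coprime_ordCompl hp.out ho0))
      have hc := Characters.DefectZero.commute_of_coprime (E := M) (x := ⟨m ^ v, zpow_mem hm _⟩)
        (y := ⟨p, hp'⟩) (by
          rw [← orderOf_coe, ← orderOf_coe]
          exact Nat.Coprime.of_dvd hvord hpord hb2)
      exact congrArg Subtype.val hc
    conv_lhs => rw [hsplit]
    calc m ^ u * m ^ v * p * (m ^ u * m ^ v)⁻¹ = m ^ u * (m ^ v * p * (m ^ v)⁻¹) * (m ^ u)⁻¹ := by group
      _ = m ^ u * p * (m ^ u)⁻¹ := by rw [hcomm.eq, mul_inv_cancel_right]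

variable (hG : Ctx G) (hne : M ≠ ⊥)
include hG hne

theorem flip {a : G} (haN : a ∈ normalizer (two M : Set G)) (hev : 2 ∣ Nat.card M) {k : ℕ}
    (hk : a ^ 2 ^ k = 1) (haP : a ∉ two M) : Flip z a (two M) := by
  rw [normalizer_pPart h hM hG hne hev] at haN
  have haM : a ∉ M := fun ha => haP (mem_pPart (p := 2) h hM ha hk)
  obtain ⟨m, hm, e⟩ := exists_flip h hM hG hne haN haM hk
  refine ⟨normalizer_le_normalizer_pPart h hM haN, m, e, fun p hp => ?_, fun p hp => ?_⟩
  · obtain ⟨q, hq, hq'⟩ := exists_inner h hM hm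
    rw [hq' p (Zc_le hp), (mem_Zc.1 hp).2 q hq, mul_inv_cancel_right]
  · obtain ⟨q, hq, hq'⟩ := exists_inner h hM hm
    rw [hq' p hp]
    exact (twoInv h hM).commutator_mem hq hp

/-- A two-element centralising the two-part of order at most four or at least sixteen. -/
theorem mem_of_centralizes {a : G} (hev : 2 ∣ Nat.card M) {k : ℕ} (hk : a ^ 2 ^ k = 1)
    (hc : ∀ p ∈ two M, a * p = p * a) : a ∈ two M := by
  by_contra haP
  have haN : a ∈ normalizer (two M : Set G) := by
    refine mem_normalizer_fintype fun p hp => ?_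
    show a * p * a⁻¹ ∈ two M
    rw [hc p hp, mul_inv_cancel_right]; exact hp
  have F := flip h hM hG hne haN hev hk haP
  have T := twoInv h hM
  have h4 : Nat.card (two M) ≤ 4 :=
    FlipW.card_le F T le_rfl (by rw [relIndex_self]; norm_num) hc
  obtain ⟨m, hm, hmZ, -⟩ := F.inverts
  have hbot : two M = ⊥ := by
    refine eq_bot_iff.2 fun p hp => ?_
    refine T.eq_one_of_fixed hp ?_
    have h1 : a * (z * p * z⁻¹) * a⁻¹ = z * p * z⁻¹ := by
      rw [hc _ (T.conj_mem hp), mul_inv_cancel_right]
    have h2 : a * (z * p * z⁻¹) * a⁻¹ = z⁻¹ * p * z := by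
      calc a * (z * p * z⁻¹) * a⁻¹ = (a * z * a⁻¹) * (a * p * a⁻¹) * (a * z * a⁻¹)⁻¹ := by group
        _ = m * (z⁻¹ * p * z) * m⁻¹ := by rw [hm, hc p hp, mul_inv_cancel_right]; group
        _ = z⁻¹ * p * z := hmZ _ (mem_Zc.2 ⟨T.conj_inv_mem hp,
            fun q hq => T.commute_of_card_four h4 hq (T.conj_inv_mem hp)⟩)
    have e' := h1.symm.trans h2
    calc z * p * z⁻¹ = z⁻¹ * p * z := e'
      _ = z ^ 3 * (z⁻¹ * p * z) * (z ^ 3)⁻¹ := by rw [h.pow_three, inv_one, one_mul, mul_one]
      _ = z * (z * p * z⁻¹) * z⁻¹ := by simp only [pow_succ, pow_zero, one_mul]; group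
      _ = z * (z⁻¹ * p * z) * z⁻¹ := by rw [e']
      _ = p := by group
  have := card_pPart (p := 2) M
  rw [hbot, Subgroup.card_bot] at this
  have := Nat.Prime.factorization_pos_of_dvd hp.out Nat.card_pos.ne' hev
  have := Nat.one_lt_pow (show (Nat.card M).factorization 2 ≠ 0 by omega) (by norm_num : 1 < 2)
  omega

omit hM hne in
theorem Zc_le_of_pair {z' : G} {M' : Subgroup G} (h' : WSC z') (hM' : MaxInv z' M')
    (hM : MaxInv z M) (hne : M ≠ ⊥) (hev : 2 ∣ Nat.card M) (h16 : 16 ≤ Nat.card (two M))
    {R : Subgroup G} (hR : IsPGroup 2 R)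
    (hP : two M ≤ R) (hP' : two M' ≤ R) (hi : (two M).relIndex R ≤ 2)
    (hi' : (two M').relIndex R ≤ 2) : Zc (two M') ≤ Zc (two M) := by
  intro a ha
  have T := twoInv h hM
  obtain ⟨haP', hac⟩ := mem_Zc.1 ha
  set D := two M ⊓ two M'
  have hD : D.relIndex (two M) ≤ 2 := by
    rw [inf_relIndex_left]
    exact (relIndex_le_of_le_right hP FiniteIndex.index_ne_zero).trans hi'
  have hc : ∀ d ∈ D, a * d = d * a := fun d hd => (hac d hd.2).symm
  have haP : a ∈ two M := by
    by_contra haP
    obtain ⟨k, hk⟩ := hR ⟨a, hP' haP'⟩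
    have hk' : a ^ 2 ^ k = 1 := congrArg Subtype.val hk
    have hn : ((two M).subgroupOf R).Normal := by
      rcases Nat.lt_or_ge ((two M).relIndex R) 2 with h1 | h1
      · have : (two M).relIndex R ≠ 0 := FiniteIndex.index_ne_zero
        exact absurd (relIndex_eq_one.1 (by omega) (hP' haP')) haP
      · exact normal_of_index_eq_two (show (two M).relIndex R = 2 by omega)
    have haN : a ∈ normalizer (two M : Set G) :=
      (normal_subgroupOf_iff_le_normalizer hP).1 hn (hP' haP')
    have := FlipW.card_le (flip h hM hG hne haN hev hk' haP) T inf_le_left hD hc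
    omega
  exact T.central_of_hyperplane inf_le_left hD haP fun d hd => (hc d hd).symm

/-- Two large two-parts with index at most two in a common two-group. -/
theorem pair {z' : G} {M' : Subgroup G} (h' : WSC z') (hM' : MaxInv z' M') (hne' : M' ≠ ⊥)
    (hev : 2 ∣ Nat.card M) (hev' : 2 ∣ Nat.card M') (h16 : 16 ≤ Nat.card (two M))
    (h16' : 16 ≤ Nat.card (two M')) {R : Subgroup G} (hR : IsPGroup 2 R) (hP : two M ≤ R)
    (hP' : two M' ≤ R) (hi : (two M).relIndex R ≤ 2) (hi' : (two M').relIndex R ≤ 2) :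
    M = M' := by
  have hW : Zc (two M) = Zc (two M') :=
    le_antisymm (Zc_le_of_pair h' hG h hM hM' hne' hev' h16' hR hP' hP hi' hi)
      (Zc_le_of_pair h hG h' hM' hM hne hev h16 hR hP hP' hi hi')
  set W := Zc (two M) with hWdef
  have T := twoInv h hM
  have T' := twoInv h' hM'
  have hWne : W ≠ ⊥ := by
    have : Nontrivial (two M) := Finite.one_lt_card_iff_nontrivial.1 (by omega)
    have := T.two.center_nontrivial
    intro e
    rw [hWdef, Zc, Subgroup.map_eq_bot_iff_of_injective _ (two M).subtype_injective] at e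
    exact (nontrivial_iff_ne_bot _).1 this e
  have hNW : normalizer (M : Set G) ≤ normalizer (W : Set G) :=
    (normalizer_le_normalizer_pPart h hM).trans (normalizer_le_normalizer_Zc _)
  have hNW' : normalizer (M' : Set G) ≤ normalizer (W : Set G) := hW ▸
    (normalizer_le_normalizer_pPart h' hM').trans (normalizer_le_normalizer_Zc _)
  have hPR : R ≤ normalizer (two M : Set G) := by
    refine (normal_subgroupOf_iff_le_normalizer hP).1 ?_
    rcases Nat.lt_or_ge ((two M).relIndex R) 2 with h1 | h1
    · have : (two M).relIndex R ≠ 0 := FiniteIndex.index_ne_zero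
      have he : (two M).subgroupOf R = ⊤ := subgroupOf_eq_top.2 (relIndex_eq_one.1 (by omega))
      rw [he]; infer_instance
    · exact normal_of_index_eq_two (show (two M).relIndex R = 2 by omega)
  have hRL : R ≤ normalizer (W : Set G) := hPR.trans (normalizer_le_normalizer_Zc _)
  have hLne : normalizer (W : Set G) ≠ ⊤ := by
    intro e
    have := hG.simple
    rcases (normalizer_eq_top_iff.1 e).eq_bot_or_eq_top with e' | e'
    · exact hWne e'
    · exact ne_top h hM (top_le_iff.1 (e' ▸ (Zc_le.trans (pPart_le 2 M) : W ≤ M)))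
  have hzL : z ∈ normalizer (W : Set G) := hNW hM.1.2
  have hzL' : z' ∈ normalizer (W : Set G) := hNW' hM'.1.2
  have hW3 : ¬ 3 ∣ Nat.card W := T.Zc_inv.three_not_dvd
  rcases local_cases hG hWne le_normalizer le_rfl hW3 h hzL with ⟨N, -, -, hu⟩ | hu
  · exact (hu z M h hzL hM (le_normalizer.trans hNW)).trans
      (hu z' M' h' hzL' hM' (le_normalizer.trans hNW')).symm
  · obtain ⟨h2, -, hb⟩ := hu z M h hzL hM (le_normalizer.trans hNW)
    obtain ⟨h2', -, hb'⟩ := hu z' M' h' hzL' hM' (le_normalizer.trans hNW')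
    have e : two M = M := le_antisymm (pPart_le 2 M) (le_pPart h hM h2 le_rfl)
    have e' : two M' = M' := le_antisymm (pPart_le 2 M') (le_pPart h' hM' h2' le_rfl)
    have e1 : two M = R := eq_of_le_of_card_ge hP (e.symm ▸ hb R hRL hR)
    have e2 : two M' = R := eq_of_le_of_card_ge hP' (e'.symm ▸ hb' R hRL hR)
    rw [← e, ← e', e1, e2]

/-- A large two-part has index at most two in a Sylow subgroup. -/
theorem not_dvd_of_big (hev : 2 ∣ Nat.card M) (h16 : 16 ≤ Nat.card (two M)) :
    ¬ 2 ^ ((Nat.card M).factorization 2 + 2) ∣ Nat.card G := by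
  set n := (Nat.card M).factorization 2 with hn
  intro hd
  have hd1 : 2 ^ (n + 1) ∣ Nat.card G := (pow_dvd_pow 2 (by omega)).trans hd
  obtain ⟨K, hK, hPK⟩ := Sylow.exists_subgroup_card_pow_succ hd1 (card_pPart (p := 2) M)
  have hi := relIndex_le_two hPK (card_pPart (p := 2) M) hK.le
  have hK2 : IsPGroup 2 K := IsPGroup.of_card hK
  have hNK : normalizer (K : Set G) ≤ normalizer (M : Set G) := by
    intro g hg
    have hKg : K.map (MulAut.conj g).toMonoidHom = K := mem_normalizer_iff_map_conj_eq.1 hg
    have hne'' : M.map (MulAut.conj g).toMonoidHom ≠ ⊥ := by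
      rw [Ne, Subgroup.map_eq_bot_iff_of_injective _ (MulAut.conj g).injective]; exact hne
    have hcard : Nat.card (M.map (MulAut.conj g).toMonoidHom) = Nat.card M :=
      card_map_of_injective (MulAut.conj g).injective
    have hle : two (M.map (MulAut.conj g).toMonoidHom) ≤ K := by
      have e : (two (M.map (MulAut.conj g).toMonoidHom)).map (MulAut.conj g⁻¹).toMonoidHom ≤ two M := by
        refine le_pPart h hM ((isPGroup_pPart _).map _) ?_
        exact (Subgroup.map_mono (pPart_le 2 _)).trans (map_conj_inv M g).le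
      have := Subgroup.map_mono (f := (MulAut.conj g).toMonoidHom) (e.trans hPK)
      rw [hKg] at this
      have e2 := map_conj_inv (two (M.map (MulAut.conj g).toMonoidHom)) g⁻¹
      rw [inv_inv] at e2
      rwa [e2] at this
    have hc' : Nat.card (two (M.map (MulAut.conj g).toMonoidHom)) = 2 ^ n := by
      rw [card_pPart, hcard]
    have := pair h hM hG hne (h.conj g) (hM.conj g) hne'' hev (by rwa [hcard]) h16
      (by rw [hc', hn, ← card_pPart]; exact h16) hK2 hPK hle hi (relIndex_le_two hle hc' hK.le)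
    exact mem_normalizer_iff_map_conj_eq.2 this.symm
  have h1 := (Sylow.prime_pow_dvd_card_normalizer hd hK).trans (card_dvd_of_le hNK)
  rcases card_normalizer h hM hG hne with e | e <;> rw [e] at h1
  · have := (Nat.Coprime.pow_left _ (by norm_num : Nat.Coprime 2 3)).dvd_of_dvd_mul_left h1
    have := (hp.out.pow_dvd_iff_le_factorization Nat.card_pos.ne').1 this
    omega
  · rw [show 6 * Nat.card M = 3 * (2 * Nat.card M) by ring] at h1
    have h2 := (Nat.Coprime.pow_left _ (by norm_num : Nat.Coprime 2 3)).dvd_of_dvd_mul_left h1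
    rw [show n + 2 = (n + 1) + 1 by omega, pow_succ'] at h2
    have := (hp.out.pow_dvd_iff_le_factorization Nat.card_pos.ne').1
      (Nat.dvd_of_mul_dvd_mul_left two_pos h2)
    omega

/-- A four-group two-part and a large one do not lie in a common Sylow subgroup. -/
theorem not_big_small {z' : G} {M' : Subgroup G} (h' : WSC z') (hM' : MaxInv z' M') (hne' : M' ≠ ⊥)
    (hev : 2 ∣ Nat.card M) (hev' : 2 ∣ Nat.card M') (h16 : 16 ≤ Nat.card (two M))
    (h4 : Nat.card (two M') = 4) {R : Subgroup G} (hR : IsPGroup 2 R) (hP : two M ≤ R)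
    (hV : two M' ≤ R) (hi : (two M).relIndex R ≤ 2) : False := by
  have T := twoInv h hM
  have T' := twoInv h' hM'
  have hpow : ∀ a ∈ R, ∃ k : ℕ, a ^ 2 ^ k = 1 := fun a ha =>
    (hR ⟨a, ha⟩).imp fun k hk => congrArg Subtype.val hk
  have hCV : ∀ a ∈ R, (∀ p ∈ two M', a * p = p * a) → a ∈ two M' := fun a ha hc =>
    (hpow a ha).elim fun k hk => mem_of_centralizes h' hM' hG hne' hev' hk hc
  have hCP : ∀ a ∈ R, (∀ p ∈ two M, a * p = p * a) → a ∈ two M := fun a ha hc =>
    (hpow a ha).elim fun k hk => mem_of_centralizes h hM hG hne hev hk hc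
  by_cases hVP : two M' ≤ two M
  · have hZV : Zc (two M) ≤ two M' := fun a ha => hCV a (hP (Zc_le ha))
      fun p hp => ((mem_Zc.1 ha).2 p (hVP hp)).symm
    have hnt : Zc (two M) ≠ ⊥ := by
      have : Nontrivial (two M) := Finite.one_lt_card_iff_nontrivial.1 (by omega)
      have := T.two.center_nontrivial
      intro e
      rw [Zc, Subgroup.map_eq_bot_iff_of_injective _ (two M).subtype_injective] at e
      exact (nontrivial_iff_ne_bot _).1 this e
    have h4' : 4 ≤ Nat.card (Zc (two M)) := by
      rcases T.Zc_inv.card_le_four_or with e | e | e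
      · exact absurd (card_eq_one.1 e) hnt
      all_goals omega
    have e : Zc (two M) = two M' := eq_of_le_of_card_ge hZV (by omega)
    have hle : two M ≤ two M' := fun p hp => hCV p (hP hp)
      fun q hq => (mem_Zc.1 (e.symm ▸ hq : q ∈ Zc (two M))).2 p hp
    have := Subgroup.card_le_of_le hle
    omega
  · obtain ⟨a, haV, haP⟩ : ∃ a ∈ two M', a ∉ two M := SetLike.not_le_iff_exists.1 hVP
    obtain ⟨k, hk⟩ := hpow a (hV haV)
    have hn : ((two M).subgroupOf R).Normal := by
      rcases Nat.lt_or_ge ((two M).relIndex R) 2 with h1 | h1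
      · have : (two M).relIndex R ≠ 0 := FiniteIndex.index_ne_zero
        exact absurd (relIndex_eq_one.1 (by omega) (hV haV)) haP
      · exact normal_of_index_eq_two (show (two M).relIndex R = 2 by omega)
    have F := flip h hM hG hne ((normal_subgroupOf_iff_le_normalizer hP).1 hn (hV haV)) hev hk haP
    -- a nontrivial element central in `R`
    have : Nontrivial R := by
      have : 1 < Nat.card R := lt_of_lt_of_le (by omega) (Subgroup.card_le_of_le hP)
      exact Finite.one_lt_card_iff_nontrivial.1 this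
    have := hR.center_nontrivial
    obtain ⟨⟨⟨c, hcR⟩, hc⟩, hc1⟩ := exists_ne (1 : center R)
    have hcc : ∀ r ∈ R, r * c = c * r := fun r hr =>
      congrArg Subtype.val (mem_center_iff.1 hc ⟨r, hr⟩)
    have hc1' : c ≠ 1 := fun e => hc1 (Subtype.ext (Subtype.ext e))
    have hcV : c ∈ two M' := hCV c hcR fun p hp => (hcc p (hV hp)).symm
    have hcP : c ∈ two M := hCP c hcR fun p hp => (hcc p (hP hp)).symm
    have hinf : Nat.card ((two M' ⊓ two M : Subgroup G)) ≤ 2 := by
      have hlt : two M' ⊓ two M ≠ two M' := fun e => hVP (inf_eq_left.1 e)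
      have hd := card_dvd_of_le (inf_le_left : two M' ⊓ two M ≤ two M')
      rw [h4] at hd
      have hle := Nat.le_of_dvd (by norm_num) hd
      by_contra hgt
      generalize hk' : Nat.card ((two M' ⊓ two M : Subgroup G)) = j at hd hle hgt
      interval_cases j
      · norm_num at hd
      · exact hlt (eq_of_le_of_card_ge inf_le_left (by omega))
    have hcomm : ∀ p ∈ two M', ∀ q ∈ two M', p * q = q * p := fun p hp q hq =>
      T'.commute_of_card_four h4.le hp hq
    have hfix : Nat.card {p : two M // a * (p : G) = (p : G) * a} ≤ 2 := by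
      refine le_trans ?_ hinf
      have hsub : ∀ p : {p : two M // a * (p : G) = (p : G) * a}, ((p.1 : G)) ∈ two M' ⊓ two M := by
        intro p
        refine ⟨hCV _ (hP p.1.2) fun q hq => ?_, p.1.2⟩
        -- `q` lies in `⟨c, a⟩`
        let C := Subgroup.centralizer ({(p.1 : G)} : Set G) ⊓ two M'
        have hcC : c ∈ C := ⟨mem_centralizer_singleton_iff.2 (hcc _ (hP p.1.2)).symm, hcV⟩
        have haC : a ∈ C := ⟨mem_centralizer_singleton_iff.2 p.2, haV⟩
        have : C = two M' := by
          refine eq_of_le_of_card_ge inf_le_right ?_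
          have hd := card_dvd_of_le (inf_le_right : C ≤ two M')
          rw [h4] at hd ⊢
          have hle := Nat.le_of_dvd (by norm_num) hd
          have h3 : 3 ≤ Nat.card C := by
            have hg : Function.Injective (![⟨1, one_mem _⟩, ⟨c, hcC⟩, ⟨a, haC⟩] : Fin 3 → C) := by
              intro i j e
              have e' := congrArg (Subtype.val) e
              fin_cases i <;> fin_cases j <;> simp at e' ⊢ <;>
                first
                  | exact hc1' e' | exact hc1' e'.symm
                  | exact haP (e' ▸ one_mem _) | exact haP (e'.symm ▸ one_mem _)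
                  | exact haP (e' ▸ hcP) | exact haP (e'.symm ▸ hcP)
            simpa using Nat.card_le_card_of_injective _ hg
          generalize Nat.card C = j at hd hle h3
          interval_cases j
          · norm_num at hd
          · omega
        exact (mem_centralizer_singleton_iff.1 ((this.symm ▸ hq : q ∈ C).1)).symm
      exact Nat.card_le_card_of_injective (fun p => (⟨(p.1 : G), hsub p⟩ : (two M' ⊓ two M : Subgroup G)))
        fun p q e => Subtype.ext (Subtype.ext (congrArg (fun y : (two M' ⊓ two M : Subgroup G) => (y : G)) e :))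
    have ha2 : a * a = 1 := by
      have hd : orderOf a ∣ 4 := h4 ▸ (orderOf_dvd_natCard (two M') haV)
      by_contra hne2
      have ho : orderOf a = 4 := by
        have hle := Nat.le_of_dvd (by norm_num) hd
        have h1 : a ≠ 1 := fun e => haP (e ▸ one_mem _)
        generalize hj : orderOf a = j at hd hle
        interval_cases j
        · simp at hd
        · exact absurd (orderOf_eq_one_iff.1 hj) h1
        · exact absurd (by rw [← pow_two, ← hj]; exact pow_orderOf_eq_one a) hne2
        · norm_num at hd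
        · rfl
      have hgen : zpowers a = two M' :=
        eq_of_le_of_card_ge (zpowers_le.2 haV) (by rw [Nat.card_zpowers, ho, h4])
      -- the unique involution would be fixed
      have hsq : z' * (a * a) * z'⁻¹ = a * a := by
        have hm : z' * a * z'⁻¹ ∈ zpowers a := hgen ▸ T'.conj_mem haV
        obtain ⟨i, hi⟩ := mem_zpowers_iff.1 hm
        have hodd : ¬ (2 : ℤ) ∣ i := by
          rintro ⟨j, rfl⟩
          have h2 : (z' * a * z'⁻¹) ^ 2 = 1 := by
            rw [← hi, ← zpow_natCast, ← zpow_mul, show 2 * j * ((2 : ℕ) : ℤ) = (4 : ℕ) * j by push_cast; ring,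
              zpow_mul, zpow_natCast, ← ho, pow_orderOf_eq_one, one_zpow]
          rw [conj_pow] at h2
          exact hne2 (by simpa [pow_two] using h2)
        obtain ⟨j, rfl⟩ : ∃ j, i = 2 * j + 1 := ⟨i / 2, by omega⟩
        calc z' * (a * a) * z'⁻¹ = (z' * a * z'⁻¹) * (z' * a * z'⁻¹) := by group
          _ = a * a := by
            rw [← hi, ← zpow_add, show (2 * j + 1) + (2 * j + 1) = ((4 : ℕ) : ℤ) * j + 2 by
              push_cast; ring, zpow_add, zpow_mul, zpow_natCast, ← ho, pow_orderOf_eq_one,
              one_zpow, one_mul, zpow_two]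
      exact hne2 (T'.eq_one_of_fixed (mul_mem haV haV) hsq)
    have := FlipW.card_le_of_fixed F T ha2 hfix
    omega

end Cfsg.Agent.Lib.NineTwoQ78.Loc
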