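import Cfsg.Agent.Lib.NineTwoQ78.Loc.Pairs

/-!
# At most two classes of even order

Copied from `Spectrum.SelfThree`, for elements whose centraliser is a 3-group.
-/

namespace Cfsg.Agent.Lib.NineTwoQ78.Loc

open Subgroup
open Cfsg.Agent.Lib
open Cfsg.Agent.Lib.Spectrum.SelfThree (Inv MaxInv Shape SC pPart map_conj_inv
  map_conj_one exists_conj_le not_conj_map conjMap_mem exists_inv_four card_inv_sixty
  inv_subgroupOf inv_map_subtype not_three_fours pPart_le isPGroup_pPart card_pPart Zc mem_Zc Zc_le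
  normalizer_le_normalizer_Zc Flip relIndex_le_two)
open scoped Pointwise

universe u

variable {G : Type u} [Group G] [Finite G] [Fact (Nat.Prime 2)]

local notation "two" => pPart 2

theorem TwoInv.sq_eq_one {z : G} {P : Subgroup G} (T : TwoInv z P) (h4 : Nat.card P = 4) {v : G}
    (hv : v ∈ P) : v * v = 1 := by
  by_contra hne2
  have hd : orderOf v ∣ 4 := h4 ▸ orderOf_dvd_natCard P hv
  have ho : orderOf v = 4 := by
    have hle := Nat.le_of_dvd (by norm_num) hd
    generalize hj : orderOf v = j at hd hle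
    interval_cases j
    · simp at hd
    · exact absurd (by simp [orderOf_eq_one_iff.1 hj]) hne2
    · exact absurd (by rw [← pow_two, ← hj]; exact pow_orderOf_eq_one v) hne2
    · norm_num at hd
    · rfl
  have hgen : zpowers v = P :=
    eq_of_le_of_card_ge (zpowers_le.2 hv) (by rw [Nat.card_zpowers, ho, h4])
  have hsq : z * (v * v) * z⁻¹ = v * v := by
    obtain ⟨i, hi⟩ := mem_zpowers_iff.1 (hgen ▸ T.conj_mem hv : z * v * z⁻¹ ∈ zpowers v)
    have h4' : ∀ j : ℤ, v ^ (((4 : ℕ) : ℤ) * j) = 1 := fun j => by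
      rw [zpow_mul, zpow_natCast, ← ho, pow_orderOf_eq_one, one_zpow]
    obtain ⟨j, rfl | rfl⟩ : ∃ j : ℤ, i = 2 * j ∨ i = 2 * j + 1 := ⟨i / 2, by omega⟩
    · exfalso
      apply hne2
      have h2 : (z * v * z⁻¹) ^ 2 = 1 := by
        rw [← hi, ← zpow_natCast, ← zpow_mul, show 2 * j * ((2 : ℕ) : ℤ) = ((4 : ℕ) : ℤ) * j by
          push_cast; ring, h4']
      rw [conj_pow] at h2
      simpa [pow_two] using h2
    · calc z * (v * v) * z⁻¹ = (z * v * z⁻¹) * (z * v * z⁻¹) := by group
        _ = v * v := by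
          rw [← hi, ← zpow_add, show (2 * j + 1) + (2 * j + 1) = ((4 : ℕ) : ℤ) * j + 2 by
            push_cast; ring, zpow_add, h4', one_mul, zpow_two]
  exact hne2 (T.eq_one_of_fixed (mul_mem hv hv) hsq)

/-- Conjugating the two-part. -/
theorem two_map {z : G} {M : Subgroup G} (h : WSC z) (hM : MaxInv z M) (g : G) :
    two (M.map (MulAut.conj g).toMonoidHom) = (two M).map (MulAut.conj g).toMonoidHom := by
  symm
  refine eq_of_le_of_card_ge (le_pPart (h.conj g) (hM.conj g) ((isPGroup_pPart M).map _)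
    (Subgroup.map_mono (pPart_le 2 M))) ?_
  rw [card_map_of_injective (MulAut.conj g).injective, card_pPart, card_pPart,
    card_map_of_injective (MulAut.conj g).injective]

variable (hG : Ctx G) {x : G} (hx : WSC x)
include hG hx

/-- Two non-conjugate classes of even order have four-groups as two-parts. -/
theorem two_even {M M' : Subgroup G} (hM : MaxInv x M) (hM' : MaxInv x M') (hne : M ≠ ⊥)
    (hne' : M' ≠ ⊥) (hnc : ∀ g : G, M.map (MulAut.conj g).toMonoidHom ≠ M')
    (hev : 2 ∣ Nat.card M) (hev' : 2 ∣ Nat.card M') :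
    Nat.card (two M) = 4 ∧ Nat.card (normalizer (M : Set G)) = 6 * Nat.card M ∧ 8 ∣ Nat.card G := by
  obtain ⟨S⟩ : Nonempty (Sylow 2 G) := inferInstance
  obtain ⟨g, hg⟩ := exists_conj_le S (isPGroup_pPart (p := 2) M)
  obtain ⟨g', hg'⟩ := exists_conj_le S (isPGroup_pPart (p := 2) M')
  set N := M.map (MulAut.conj g).toMonoidHom with hN
  set N' := M'.map (MulAut.conj g').toMonoidHom with hN'
  have hsN : WSC (g * x * g⁻¹) := hx.conj g
  have hsN' : WSC (g' * x * g'⁻¹) := hx.conj g'
  have hcN : Nat.card N = Nat.card M := card_map_of_injective (MulAut.conj g).injective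
  have hcN' : Nat.card N' = Nat.card M' := card_map_of_injective (MulAut.conj g').injective
  have hneN : N ≠ ⊥ := by
    rw [hN, Ne, Subgroup.map_eq_bot_iff_of_injective _ (MulAut.conj g).injective]; exact hne
  have hneN' : N' ≠ ⊥ := by
    rw [hN', Ne, Subgroup.map_eq_bot_iff_of_injective _ (MulAut.conj g').injective]; exact hne'
  have hle : two N ≤ (S : Subgroup G) := by rw [hN, two_map hx hM g]; exact hg
  have hle' : two N' ≤ (S : Subgroup G) := by rw [hN', two_map hx hM' g']; exact hg'
  have hne12 : N ≠ N' := fun e => not_conj_map hnc g g' 1 (by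
    rw [← hN, ← hN', ← e, map_conj_one])
  have hevN : 2 ∣ Nat.card N := hcN ▸ hev
  have hevN' : 2 ∣ Nat.card N' := hcN' ▸ hev'
  have hS : Nat.card S = 2 ^ (Nat.card G).factorization 2 := S.card_eq_multiplicity
  have hbound : ∀ {z : G} {K : Subgroup G}, WSC z → MaxInv z K → K ≠ ⊥ → 2 ∣ Nat.card K →
      16 ≤ Nat.card (two K) → two K ≤ (S : Subgroup G) → (two K).relIndex (S : Subgroup G) ≤ 2 := by
    intro z K hz hK hKne hKev h16 hKS
    refine relIndex_le_two hKS (card_pPart (p := 2) K) ?_
    rw [hS]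
    refine Nat.pow_le_pow_right (by norm_num) ?_
    by_contra hh
    exact not_dvd_of_big hz hK hG hKne hKev h16
      ((Nat.prime_two.pow_dvd_iff_le_factorization Nat.card_pos.ne').2 (by omega))
  have hcard : ∀ {z : G} {K : Subgroup G}, WSC z → MaxInv z K → 2 ∣ Nat.card K →
      Nat.card (two K) = 4 ∨ 16 ≤ Nat.card (two K) := by
    intro z K hz hK hKev
    rcases (twoInv hz hK).card_le_four_or with e | e
    · exfalso
      rw [card_pPart] at e
      have := Nat.Prime.factorization_pos_of_dvd Nat.prime_two Nat.card_pos.ne' hKev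
      have := Nat.one_lt_pow (show (Nat.card K).factorization 2 ≠ 0 by omega) (by norm_num : 1 < 2)
      omega
    · exact e
  have h4 : Nat.card (two N) = 4 := by
    rcases hcard hsN (hM.conj g) hevN with e | e
    · exact e
    · exfalso
      rcases hcard hsN' (hM'.conj g') hevN' with e' | e'
      · exact not_big_small hsN (hM.conj g) hG hneN hsN' (hM'.conj g') hneN' hevN hevN' e e'
          S.isPGroup' hle hle' (hbound hsN (hM.conj g) hneN hevN e hle)
      · exact hne12 (pair hsN (hM.conj g) hG hneN hsN' (hM'.conj g') hneN' hevN hevN' e e' S.isPGroup'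
          hle hle' (hbound hsN (hM.conj g) hneN hevN e hle) (hbound hsN' (hM'.conj g') hneN' hevN' e' hle'))
  have h4' : Nat.card (two N') = 4 := by
    rcases hcard hsN' (hM'.conj g') hevN' with e | e
    · exact e
    · exfalso
      exact not_big_small hsN' (hM'.conj g') hG hneN' hsN (hM.conj g) hneN hevN' hevN e h4
        S.isPGroup' hle' hle (hbound hsN' (hM'.conj g') hneN' hevN' e hle')
  have h4M : Nat.card (two M) = 4 := by
    rw [← h4, card_pPart, card_pPart, hcN]
  have h8 : 8 ∣ Nat.card G := by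
    rw [show (8 : ℕ) = 2 ^ 3 by norm_num]
    refine (Nat.prime_two.pow_dvd_iff_le_factorization Nat.card_pos.ne').2 ?_
    by_contra hh
    have hle4 : Nat.card S ≤ 4 := by
      rw [hS]
      calc 2 ^ (Nat.card G).factorization 2 ≤ 2 ^ 2 := Nat.pow_le_pow_right (by norm_num) (by omega)
        _ = 4 := by norm_num
    have e : two N = (S : Subgroup G) := eq_of_le_of_card_ge hle (by omega)
    have e' : two N' = (S : Subgroup G) := eq_of_le_of_card_ge hle' (by omega)
    have := eq_map_of_pPart (p := 2) hsN (hM.conj g) hG hneN hsN' (hM'.conj g') hneN' hevN hevN' 1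
      (by rw [e', ← e, map_conj_one])
    rw [map_conj_one] at this
    exact hne12 this.symm
  refine ⟨h4M, (card_normalizer hx hM hG hne).resolve_left fun e => ?_, h8⟩
  have hf := factorization_eq (p := 2) hx hM hG hne hev (Or.inr e)
  have h3 := (Nat.prime_two.pow_dvd_iff_le_factorization (k := 3) Nat.card_pos.ne').1
    (show 2 ^ 3 ∣ Nat.card G by norm_num; exact h8)
  rw [card_pPart] at h4M
  rw [hf] at h3
  have h5 : 2 ^ 3 ≤ 2 ^ (Nat.card M).factorization 2 := Nat.pow_le_pow_right (by norm_num) h3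
  omega

/-- There are no three non-conjugate classes of even order. -/
theorem not_three_even (M : Fin 3 → Subgroup G) (hM : ∀ i, MaxInv x (M i)) (hne : ∀ i, M i ≠ ⊥)
    (hnc : ∀ i j, i ≠ j → ∀ g : G, (M i).map (MulAut.conj g).toMonoidHom ≠ M j)
    (hev : ∀ i, 2 ∣ Nat.card (M i)) : False := by
  have hall : ∀ i, Nat.card (two (M i)) = 4 ∧ Nat.card (normalizer (M i : Set G)) = 6 * Nat.card (M i) ∧
      8 ∣ Nat.card G := by
    intro i
    obtain ⟨j, hj⟩ : ∃ j, i ≠ j := ⟨i + 1, by fin_cases i <;> decide⟩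
    exact two_even hG hx (hM i) (hM j) (hne i) (hne j) (hnc i j hj) (hev i) (hev j)
  obtain ⟨S⟩ : Nonempty (Sylow 2 G) := inferInstance
  choose g hg using fun i => exists_conj_le S (isPGroup_pPart (p := 2) (M i))
  let N : Fin 3 → Subgroup G := fun i => (M i).map (MulAut.conj (g i)).toMonoidHom
  have hs : ∀ i, WSC (g i * x * (g i)⁻¹) := fun i => hx.conj _
  have hNne : ∀ i, N i ≠ ⊥ := fun i => by
    show (M i).map _ ≠ ⊥
    rw [Ne, Subgroup.map_eq_bot_iff_of_injective _ (MulAut.conj (g i)).injective]; exact hne i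
  have hNev : ∀ i, 2 ∣ Nat.card (N i) := fun i => by
    show 2 ∣ Nat.card ((M i).map _)
    rw [card_map_of_injective (MulAut.conj (g i)).injective]; exact hev i
  have hVle : ∀ i, two (N i) ≤ (S : Subgroup G) := fun i => by
    show two ((M i).map _) ≤ _
    rw [two_map hx (hM i) (g i)]; exact hg i
  have hV4 : ∀ i, Nat.card (two (N i)) = 4 := fun i => by
    show Nat.card (two ((M i).map _)) = 4
    rw [two_map hx (hM i) (g i), card_map_of_injective (MulAut.conj (g i)).injective, (hall i).1]
  have h8 : 4 < Nat.card (S : Subgroup G) := by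
    have := Nat.le_of_dvd Nat.card_pos (Sylow.pow_dvd_card_of_pow_dvd_card S (n := 3)
      (show 2 ^ 3 ∣ Nat.card G by norm_num; exact (hall 0).2.2))
    omega
  refine not_three_fours (R := (S : Subgroup G)) S.isPGroup' h8
    (fun i => (two (N i)).subgroupOf S)
    (fun i => by rw [Nat.card_congr (subgroupOfEquivOfLe (hVle i)).toEquiv, hV4]) ?_ ?_ ?_
  · intro i v hv
    exact Subtype.ext ((twoInv (hs i) ((hM i).conj _)).sq_eq_one (hV4 i) (mem_subgroupOf.1 hv))
  · intro i a ha
    obtain ⟨k, hk⟩ := S.isPGroup' a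
    exact mem_subgroupOf.2 (mem_of_centralizes (hs i) ((hM i).conj _) hG (hNne i) (hNev i)
      (show (a : G) ^ 2 ^ k = 1 from congrArg Subtype.val hk)
      fun v hv => congrArg Subtype.val (ha ⟨v, hVle i hv⟩ (mem_subgroupOf.2 hv)))
  · intro i j hij r e
    have e1 : (two (N i)).map (MulAut.conj (r : G)).toMonoidHom = two (N j) := by
      refine eq_of_le_of_card_ge ?_ (by rw [card_map_of_injective (MulAut.conj (r : G)).injective, hV4, hV4])
      rintro _ ⟨v, hv, rfl⟩
      have hmem : r * ⟨v, hVle i hv⟩ * r⁻¹ ∈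
          ((two (N i)).subgroupOf S).map (MulAut.conj r).toMonoidHom :=
        ⟨⟨v, hVle i hv⟩, mem_subgroupOf.2 hv, rfl⟩
      rw [e] at hmem
      exact mem_subgroupOf.1 hmem
    have := eq_map_of_pPart (p := 2) (hs i) ((hM i).conj _) hG (hNne i) (hs j) ((hM j).conj _) (hNne j)
      (hNev i) (hNev j) r e1.symm
    exact not_conj_map (hnc i j hij) (g i) (g j) r this.symm

end Cfsg.Agent.Lib.NineTwoQ78.Loc
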